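import Cfsg.Agent.H139.XZ.Cnt

/-!
# S4791 + S4927: `p + 1` labels with nonzero values of the functional

* `F_slot` : a cuspidal variable of level `e` and label of order `p` counts as the one with label `0`;
* `exists_family` : the labels.
-/

set_option autoImplicit false
set_option linter.unusedSectionVars false
set_option linter.unusedVariables false

namespace Cfsg.Agent.H139.XZ

open Cfsg.Agent.H614 Cfsg.Agent.H577.GLB.Std Cfsg.Agent.H614.GLn.RSt Cfsg.Agent.H76.GLB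
open Cfsg.Agent.H614.GLn hiding bsz
open Cfsg.Agent.H794.XZ (S0 ZU row Dv_S0)
open Cfsg.Agent.Blocks.Local

variable {Q : ℤ} {M : ℕ} [NeZero M] {p : ℕ} {m s e : ℕ} {N : ℕ} {𝔐 : Ideal AlgInt} {F : ∀ n, n ≤ N → (RS M →ₗ[ℂ] ℂ)}

theorem mul_hom {a b : ℕ} {x y : RS M} (hx : x ∈ Hom Q M a) (hy : y ∈ Hom Q M b) : x * y ∈ Hom Q M (a + b) :=
  ⟨Subalgebra.mul_mem _ hx.1 hy.1, MvPolynomial.IsWeightedHomogeneous.mul hx.2 hy.2⟩

theorem rv_hom (k : ℕ) (c : ZMod M) : rv Q M k c ∈ Hom Q M k :=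
  ⟨Algebra.subset_adjoin ⟨(k, c), rfl⟩, whom_rv k c⟩

theorem S0_hom (hQ : IsUnit (Q : ZMod M)) {k : ℕ} (β : Fin m → ℕ) : S0 Q M k β ∈ Hom Q M k := by
  refine ⟨SS_mem_GenR k 0 β, ?_⟩
  have h := whom_SS (Q := Q) (0 : ZMod M) k β
  rwa [perZ_zero hQ, mul_one] at h

theorem tors_mem_Eta (hp : p.Prime) (hQ : IsUnit (Q : ZMod M)) (hQp : IsUnit (Q : ZMod p)) {c : ZMod M} (hc : c ≠ 0)
    (h : p • c = 0) : c ∈ Eta Q M p (orderOf (Q : ZMod p)) := by
  rw [mem_Eta]
  refine ⟨(torZ_iff _ c).2 (by rw [perZ_tors hp hQ hQp hc h]), 1, ?_⟩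
  rw [pow_one, ← nsmul_eq_mul]
  exact h

/-- the slot of label `c` counts as the slot of label `0` -/
theorem F_slot (hp : p.Prime) (hQ : IsUnit (Q : ZMod M)) (hQp : IsUnit (Q : ZMod p)) (H : FHyp Q M p N 𝔐 F)
    (he : e = orderOf (Q : ZMod p)) (he0 : 0 < e) {c : ZMod M} (hc : c ≠ 0) (h : p • c = 0) {n k : ℕ} (hn : n ≤ N)
    (hk : e + k = n) (β : Fin m → ℕ) :
    F n hn (rv Q M e c * S0 Q M k β) = F n hn (Pw Q M e 0 * S0 Q M k β) := by
  have h1 : tauP Q M p (rv Q M e c) = tauP Q M p (Pw Q M e 0) := by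
    rw [Pw_zero hQ]
    have h2 := tauP_rv_add (Q := Q) (p := p) hQ he0 (c := (0 : ZMod M)) (η := c) (by unfold TorZ; rw [mul_zero])
      (by rw [he]; exact tors_mem_Eta hp hQ hQp hc h)
    rw [zero_add] at h2
    exact h2
  have h3 : Pw Q M e (0 : ZMod M) ∈ Hom Q M e := by
    rw [Pw_zero hQ]
    exact rv_hom e 0
  have h4 := H.tau n hn (rv Q M e c * S0 Q M k β) (hk ▸ mul_hom (rv_hom e c) (S0_hom hQ β))
  have h5 := H.tau n hn (Pw Q M e 0 * S0 Q M k β) (hk ▸ mul_hom h3 (S0_hom hQ β))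
  rw [← h4, ← h5, map_mul (tauP Q M p), map_mul (tauP Q M p), h1]

theorem not_mem_sg [𝔐.IsPrime] {z : ℂ} (sg : ℤˣ) (h : ¬ MemLocalIdeal 𝔐 z) : ¬ MemLocalIdeal 𝔐 (((sg : ℤ) : ℂ) * z) := by
  rcases Int.units_eq_one_or sg with rfl | rfl
  · simpa using h
  · intro h1
    apply h
    simpa [memLocalIdeal_neg_iff] using h1

/-! ### unipotent hooks -/

theorem bt_inj {a : Fin m} {v : ℕ} (h : m - 1 + s < co m s a + e * v) : Function.Injective (bt m s e a v) := by
  have hlt : ∀ b : Fin m, b ≠ a → bt m s e a v b < bt m s e a v a := by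
    intro b hb
    rw [bt_ne hb, bt_self]
    refine lt_of_le_of_lt ?_ h
    unfold co
    have := b.2
    split_ifs <;> omega
  intro b c hbc
  by_cases hb : b = a
  · by_cases hc : c = a
    · rw [hb, hc]
    · have := hlt c hc
      rw [← hbc, hb] at this
      exact absurd this (lt_irrefl _)
  · by_cases hc : c = a
    · have := hlt b hb
      rw [hbc, hc] at this
      exact absurd this (lt_irrefl _)
    · rw [bt_ne hb, bt_ne hc] at hbc
      exact co_inj hbc

theorem bt_runner {a a' : Fin m} {v : ℕ} (hv : 0 < e * v) {σ : Equiv.Perm (Fin m)}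
    (h : bt m s e a v = bt m s e a' v ∘ σ) : a = a' := by
  by_contra hne
  have h1 := congrFun h a'
  rw [Function.comp_apply, bt_ne (Ne.symm hne)] at h1
  by_cases h2 : σ a' = a'
  · rw [h2, bt_self] at h1
    omega
  · rw [bt_ne h2] at h1
    exact h2 (co_inj h1).symm

/-- `p + 1` unipotent labels for `p ∣ w` -/
theorem exists_hooks [𝔐.IsPrime] (hp : p.Prime) (h𝔐 : IsPModular p 𝔐) (hQ : IsUnit (Q : ZMod M))
    (H : FHyp Q M p N 𝔐 F) (he : e = orderOf (Q : ZMod p)) (h2 : 2 ≤ e) (h3 : 3 ≤ p) (hs : s < e) {w n : ℕ} (hw : 0 < w)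
    (hpw : p ∣ w) (hn : n ≤ N) (hns : n = e * w + s) (hnm : n ≤ m) :
    ∃ t : Fin (p + 1) → LabZ Q M m n, Function.Injective t ∧
      ∀ i, ¬ MemLocalIdeal 𝔐 (F n hn (SchP Q M (t i).t)) ∧ ∀ c, p • c ≠ 0 → bsz ((t i).t c) = 0 := by
  have hpw' : p ≤ w := Nat.le_of_dvd hw hpw
  have hew : e * p ≤ e * w := Nat.mul_le_mul_left e hpw'
  have hep : e + p ≤ e * p := by nlinarith
  have hm : p + 2 ≤ m := by omega
  let a : Fin (p + 1) → Fin m := fun i => ⟨m - 1 - i, by omega⟩
  have ha : ∀ i, ((a i : Fin m) : ℕ) = m - 1 - i := fun _ => rfl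
  have hinj : ∀ i, Function.Injective (bt m s e (a i) w) := by
    intro i
    apply bt_inj
    have h4 : ((a i : Fin m) : ℕ) ≤ co m s (a i) := Nat.le_add_right _ _
    have h5 := i.2
    rw [ha] at h4
    omega
  have hbsz : ∀ i, bsz (srt (bt m s e (a i) w)) = n := by
    intro i
    unfold bsz srt
    rw [sum_comp, sum_bt (by omega), Nat.add_sub_cancel, hns]
  refine ⟨fun i => unl hQ (srt_mono (hinj i)) (hbsz i), ?_, fun i => ⟨?_, ?_⟩⟩
  · intro i i' hii
    have h4 := congrArg (fun l : LabZ Q M m n => l.t 0) hii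
    simp only [unl_zero] at h4
    have h5 : a i = a i' := by
      refine bt_runner (s := s) (e := e) (v := w) (σ := (Tuple.sort (bt m s e (a i) w)).symm.trans (Tuple.sort (bt m s e (a i') w)))
        (Nat.mul_pos (by omega) hw) ?_
      funext b
      have h6 := congrFun h4 ((Tuple.sort (bt m s e (a i) w)).symm b)
      simp only [srt, Function.comp_apply, Equiv.apply_symm_apply] at h6
      rw [h6]
      rfl
    have h6 := congrArg Fin.val h5
    rw [ha, ha] at h6
    apply Fin.ext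
    have h7 := i.2
    have h8 := i'.2
    omega
  · obtain ⟨sg, hsg⟩ := SS_srt (fun j => Pw Q M j (0 : ZMod M)) n (bt m s e (a i) w)
    rw [SchP_unl, hsg, map_smul, smul_eq_mul]
    refine not_mem_sg sg fun h => ?_
    have h4 := F_bt hQ H he hs w n hn hns hnm (a i)
    have h5 := (memLocalIdeal_iff_of_sub h4).1 h
    rw [memLocalIdeal_intCast_iff h𝔐] at h5
    refine not_dvd_cc hp hpw hw ?_ h5
    have h6 := i.2
    unfold dep
    rw [ha]
    split_ifs with h7 h8
    · omega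
    all_goals
      have h9 : (m - 2 - (m - 1 - i)) / e ≤ (p - 1) / 2 := by
        calc (m - 2 - (m - 1 - i)) / e ≤ (p - 1) / e := Nat.div_le_div_right (by omega)
          _ ≤ (p - 1) / 2 := Nat.div_le_div_left h2 (by norm_num)
      omega
  · intro c hc
    rw [unl_ne hQ, bsz_idb]
    rintro rfl
    exact hc (smul_zero _)

/-- **The labels**: `p + 1` different labels, supported on the labels of order dividing `p`, with nonzero values of the
functional modulo the maximal ideal. -/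
theorem exists_family [𝔐.IsPrime] (hp : p.Prime) (h𝔐 : IsPModular p 𝔐) (hQ : IsUnit (Q : ZMod M)) (hQp : IsUnit (Q : ZMod p))
    (hpM : p ∣ M) (H : FHyp Q M p N 𝔐 F) (he : e = orderOf (Q : ZMod p)) (h2 : 2 ≤ e) (hs : s < e) {w n : ℕ} (hw : 2 ≤ w)
    (hn : n ≤ N) (hns : n = e * w + s) (hnm : n ≤ m) :
    ∃ t : Fin (p + 1) → LabZ Q M m n, Function.Injective t ∧
      ∀ i, ¬ MemLocalIdeal 𝔐 (F n hn (SchP Q M (t i).t)) ∧ ∀ c, p • c ≠ 0 → bsz ((t i).t c) = 0 := by
  classical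
  have := Fact.mk hp
  have hep : e ∣ p - 1 := by
    obtain ⟨u, hu⟩ := hQp
    rw [he, ← hu, orderOf_units]
    rw [← ZMod.card_units p, ← Nat.card_eq_fintype_card]
    exact orderOf_dvd_natCard u
  have h3 : 3 ≤ p := by
    have h4 := Nat.le_of_dvd (by have := hp.two_le; omega) hep
    omega
  by_cases hpw : p ∣ w
  · exact exists_hooks hp h𝔐 hQ H he h2 h3 hs (by omega) hpw hn hns hnm
  have hem : e < m := by
    have h4 : e * 2 ≤ e * w := Nat.mul_le_mul_left e hw
    omega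
  obtain ⟨L, U, hL, hL1, hL2, hU, hU1, hU2, hLU⟩ := exists_near (Q := Q) (M := M) hp hQ hQp he hem hs hw hns
  have hfin : Finite {c : ZMod M // c ≠ 0 ∧ p • c = 0} := inferInstance
  have hcard : p + 1 ≤ Nat.card ({c : ZMod M // c ≠ 0 ∧ p • c = 0} ⊕ Fin e) := by
    rw [Nat.card_sum, card_tors hp hpM, Nat.card_fin]
    omega
  obtain ⟨f⟩ : Nonempty (Fin (p + 1) ↪ ({c : ZMod M // c ≠ 0 ∧ p • c = 0} ⊕ Fin e)) := by
    have := Fintype.ofFinite ({c : ZMod M // c ≠ 0 ∧ p • c = 0} ⊕ Fin e)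
    rw [Nat.card_eq_fintype_card] at hcard
    refine Function.Embedding.nonempty_of_card_le ?_
    rw [Fintype.card_fin]
    exact hcard
  have hinj : Function.Injective (Sum.elim L U) := by
    rintro (x | x) (y | y) hxy
    · exact congrArg _ (hL hxy)
    · exact absurd hxy (hLU x y)
    · exact absurd hxy.symm (hLU y x)
    · exact congrArg _ (hU hxy)
  refine ⟨fun i => Sum.elim L U (f i), fun i i' h => f.injective (hinj h), fun i => ?_⟩
  beta_reduce
  rcases hfi : f i with x | x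
  · rw [Sum.elim_inl]
    refine ⟨?_, fun c hc => hL2 x c hc⟩
    obtain ⟨j, sg, hj⟩ := hL1 x
    rw [hj, map_smul, smul_eq_mul]
    refine not_mem_sg sg fun h => ?_
    have hk : e + (e * (w - 1) + s) = n := by
      obtain ⟨w', rfl⟩ : ∃ w', w = w' + 1 := ⟨w - 1, by omega⟩
      rw [hns, Nat.add_sub_cancel]
      ring
    have h4 := F_slot (m := m) hp hQ hQp H he (by omega) x.2.1 x.2.2 hn hk (be m s e j (w - 1))
    rw [S0] at h4
    rw [h4] at h
    have h5 := F_near hQ H he hem hs j (w - 1) n hn (by rw [hns, Nat.sub_add_cancel (by omega)]) hnm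
    have h6 := (memLocalIdeal_iff_of_sub h5).1 h
    rw [memLocalIdeal_natCast_iff h𝔐, Nat.sub_add_cancel (by omega)] at h6
    rcases (hp.dvd_mul).1 h6 with h7 | h7
    · have h8 := Nat.le_of_dvd (by omega) h7
      have h9 := Nat.le_of_dvd (by omega) hep
      omega
    · exact hpw h7
  · rw [Sum.elim_inr]
    refine ⟨?_, fun c hc => hU2 x c hc⟩
    obtain ⟨sg, hj⟩ := hU1 x
    rw [hj, map_smul, smul_eq_mul]
    refine not_mem_sg sg fun h => ?_
    have h4 := F_bt hQ H he hs w n hn hns hnm (topF (s := s) hem x)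
    rw [dep_top hem hs x, cc_zero, ← be_eq_bt hem, Int.cast_one] at h4
    exact not_memLocalIdeal_one ((memLocalIdeal_iff_of_sub h4).1 h)

end Cfsg.Agent.H139.XZ
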