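import Cfsg.Agent.H139.XZ.Lab
import Cfsg.Agent.H794.XZ.Rec

/-!
# S4791 + S4927: the values of the functional at the near hooks

`F n : RS M →ₗ[ℂ] ℂ` a family of functionals with the recursion `F n x = F (n - e) (e ∂x/∂X(e,0))` modulo `J`, invariant
under `tauP`, with value `1` at the row `(s)`.

* `F_bt` : the value at a core with one bead moved up is the binomial coefficient `± binom(w - 1, depth)`;
* `F_near` : the value at the product of a variable of level `e` and a near hook;
* `exists_family` : `p + 1` labels with nonzero values.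
-/

set_option autoImplicit false
set_option linter.unusedSectionVars false
set_option linter.unusedVariables false

namespace Cfsg.Agent.H139.XZ

open Cfsg.Agent.H614 Cfsg.Agent.H577.GLB.Std Cfsg.Agent.H614.GLn.RSt Cfsg.Agent.H76.GLB
open Cfsg.Agent.H614.GLn hiding bsz
open Cfsg.Agent.H794.XZ (S0 ZU row Dv_S0)
open Cfsg.Agent.Blocks.Local

/-! ### tuples with one bead moved -/

section bt

variable {m s e : ℕ}

/-- the tuple of the core -/
def co (m s : ℕ) : Fin m → ℕ := fun b => (b : ℕ) + if (b : ℕ) + 1 = m then s else 0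

/-- the core with the bead `a` moved up by `e * v` -/
def bt (m s e : ℕ) (a : Fin m) (v : ℕ) : Fin m → ℕ := fun b => co m s b + if b = a then e * v else 0

theorem bt_zero (a : Fin m) : bt m s e a 0 = co m s := by
  funext b
  simp [bt]

theorem bt_ne {a b : Fin m} (h : b ≠ a) (v : ℕ) : bt m s e a v b = co m s b := by
  simp [bt, h]

theorem bt_self (a : Fin m) (v : ℕ) : bt m s e a v a = co m s a + e * v := by
  simp [bt]

theorem co_inj : Function.Injective (co m s) := by
  intro a b h
  apply Fin.ext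
  have h1 := a.2
  have h2 := b.2
  unfold co at h
  split_ifs at h <;> omega

theorem be_eq_bt (hm : e < m) (i : Fin e) (v : ℕ) : be m s e i v = bt m s e (topF (s := s) hm i) v := by
  funext b
  unfold be bt co
  congr 1
  by_cases h : (b : ℕ) = topI m s e i
  · rw [if_pos h, if_pos (Fin.ext h)]
  · rw [if_neg h, if_neg]
    intro h1
    exact h (congrArg Fin.val h1)

theorem sum_bt (hm : 0 < m) (a : Fin m) (v : ℕ) : ∑ b, bt m s e a v b = (e * v + s) + ∑ b : Fin m, (b : ℕ) := by
  unfold bt co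
  rw [Finset.sum_add_distrib, Finset.sum_add_distrib]
  have h1 : ∑ a : Fin m, (if (a : ℕ) + 1 = m then s else 0) = s := by
    rw [Finset.sum_eq_single (⟨m - 1, by omega⟩ : Fin m)]
    · rw [if_pos (by simp only; omega)]
    · intro b _ hb
      rw [if_neg]
      intro h
      exact hb (Fin.ext (by simp only; omega))
    · intro h
      exact absurd (Finset.mem_univ _) h
  rw [h1, Finset.sum_ite_eq' Finset.univ a, if_pos (Finset.mem_univ a)]
  ring

/-- every bead which is not at the bottom has a bead below it -/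
theorem exists_below (hs : s < e) {j : Fin m} (hj : e ≤ co m s j) :
    ∃ b : Fin m, b ≠ j ∧ co m s b + e = co m s j := by
  have hjm := j.2
  have he : 0 < e := by omega
  have h1 : co m s j - e + 1 < m := by
    unfold co at hj ⊢
    split_ifs at hj ⊢ <;> omega
  obtain ⟨y, hy⟩ : ∃ y, y + e = co m s j := ⟨co m s j - e, Nat.sub_add_cancel hj⟩
  have hym : y + 1 < m := by omega
  have h2 : co m s (⟨y, by omega⟩ : Fin m) = y := by
    unfold co
    rw [if_neg (by simp only; omega)]
    rfl
  refine ⟨⟨y, by omega⟩, ?_, ?_⟩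
  · intro h
    rw [h] at h2
    omega
  · rw [h2, hy]

/-- the depth of a bead: the number of beads above it on its runner -/
def dep (m s e : ℕ) (a : ℕ) : ℕ := if a + 1 = m then 0 else (m - 2 - a) / e + if e ∣ m - 1 + s - a then 1 else 0

theorem dep_zero (hs : s < e) {a : Fin m} (h : ∀ j : Fin m, co m s j ≠ co m s a + e) : dep m s e a = 0 := by
  have ha := a.2
  have he : 0 < e := by omega
  unfold dep
  split_ifs with h1 h2
  · rfl
  · exfalso
    -- `e ∣ m - 1 + s - a`
    obtain ⟨c, hc⟩ := h2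
    have h3 : co m s a = a := by unfold co; rw [if_neg h1, add_zero]
    by_cases h4 : (a : ℕ) + e + 1 < m
    · refine h ⟨a + e, by omega⟩ ?_
      rw [h3]
      unfold co
      rw [if_neg (by simp only; omega)]
      rfl
    · have h5 : c = 1 := by
        have h6 : e * c < e * 2 := by rw [← hc]; omega
        have h7 : c < 2 := lt_of_mul_lt_mul_left h6 (Nat.zero_le _)
        have h8 : c ≠ 0 := by
          rintro rfl
          rw [mul_zero] at hc
          omega
        omega
      subst h5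
      refine h ⟨m - 1, by omega⟩ ?_
      rw [h3]
      unfold co
      rw [if_pos (by simp only; omega)]
      simp only
      omega
  · rw [add_zero]
    apply Nat.div_eq_of_lt
    by_contra h4
    refine h ⟨a + e, by omega⟩ ?_
    unfold co
    rw [if_neg h1, if_neg (by simp only; omega)]
    rfl

theorem dep_succ (hs : s < e) {a j : Fin m} (h : co m s j = co m s a + e) : dep m s e a = dep m s e j + 1 := by
  have ha := a.2
  have hj := j.2
  have he : 0 < e := by omega
  have h1 : (a : ℕ) + 1 ≠ m := by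
    intro h1
    unfold co at h
    rw [if_pos h1] at h
    split_ifs at h <;> omega
  have h2 : co m s a = a := by unfold co; rw [if_neg h1, add_zero]
  rw [h2] at h
  unfold dep
  rw [if_neg h1]
  by_cases h3 : (j : ℕ) + 1 = m
  · rw [if_pos h3]
    unfold co at h
    rw [if_pos h3] at h
    rw [if_pos ⟨1, by omega⟩, Nat.div_eq_of_lt (by omega)]
  · rw [if_neg h3]
    unfold co at h
    rw [if_neg h3] at h
    have h4 : m - 2 - a = (m - 2 - j) + e := by omega
    have h5 : m - 1 + s - a = (m - 1 + s - j) + e := by omega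
    rw [h4, h5, Nat.add_div_right _ he]
    have h6 : e ∣ (m - 1 + s - j) + e ↔ e ∣ m - 1 + s - j := Nat.dvd_add_self_right
    simp only [h6]
    ring

theorem dep_top (hm : e < m) (hs : s < e) (i : Fin e) : dep m s e (topF (s := s) hm i) = 0 := by
  apply dep_zero hs
  intro j hj
  have h1 := le_topI (m := m) (s := s) i
  have h2 := topI_ne hm hs i
  have h3 := j.2
  have h4 : ((topF (s := s) hm i : Fin m) : ℕ) = topI m s e i := rfl
  unfold co at hj
  rw [h4] at hj
  have h5 := topI_lt (s := s) hm i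
  split_ifs at hj <;> omega

end bt

/-! ### the values -/

section val

variable {Q : ℤ} {M : ℕ} [NeZero M] {p : ℕ} {m s e : ℕ}

theorem mem_ZU {n : ℕ} {β : Fin m → ℕ} (h : ∑ i, β i = n + ∑ i : Fin m, (i : ℕ)) :
    SS (fun j => Pw Q M j (0 : ZMod M)) n β ∈ ZU Q M m n := AddSubgroup.subset_closure ⟨β, h, rfl⟩

theorem Pw_zero (hQ : IsUnit (Q : ZMod M)) (j : ℕ) : Pw Q M j (0 : ZMod M) = rv Q M j 0 := by
  rw [Pw, perZ_zero hQ, mul_one]

/-- the derivative of the Schur function of a core with one bead moved -/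
theorem D_bt (hQ : IsUnit (Q : ZMod M)) (hs : s < e) (a : Fin m) (v : ℕ) :
    ((∀ j : Fin m, co m s j ≠ co m s a + e) ∧
      Dv Q M (e, 0) (SS (fun j => Pw Q M j (0 : ZMod M)) (e * (v + 1) + s) (bt m s e a (v + 1))) =
        SS (fun j => Pw Q M j (0 : ZMod M)) (e * v + s) (bt m s e a v)) ∨
    ∃ j : Fin m, co m s j = co m s a + e ∧
      Dv Q M (e, 0) (SS (fun j => Pw Q M j (0 : ZMod M)) (e * (v + 1) + s) (bt m s e a (v + 1))) =
        SS (fun j => Pw Q M j (0 : ZMod M)) (e * v + s) (bt m s e a v) -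
        SS (fun j => Pw Q M j (0 : ZMod M)) (e * v + s) (bt m s e j v) := by
  classical
  have he : 0 < e := by omega
  have hev : e * (v + 1) + s - e = e * v + s := by
    have : e * (v + 1) = e * v + e := by ring
    omega
  have hev' : e ≤ e * (v + 1) + s := by
    have : e * (v + 1) = e * v + e := by ring
    omega
  have h1 := Dv_S0 hQ he hev' (bt m s e a (v + 1))
  rw [hev] at h1
  rw [h1]
  clear h1
  -- the term of `a`
  have ha : (if e ≤ bt m s e a (v + 1) a then SS (fun j => Pw Q M j (0 : ZMod M)) (e * v + s) (dn (bt m s e a (v + 1)) a e) else 0) =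
      SS (fun j => Pw Q M j (0 : ZMod M)) (e * v + s) (bt m s e a v) := by
    have h2 : e ≤ bt m s e a (v + 1) a := by
      rw [bt_self]
      have : e * (v + 1) = e * v + e := by ring
      omega
    rw [if_pos h2]
    congr 1
    funext b
    by_cases hb : b = a
    · subst hb
      rw [dn_self, bt_self, bt_self]
      have : e * (v + 1) = e * v + e := by ring
      omega
    · rw [dn_ne _ e hb, bt_ne hb, bt_ne hb]
  -- the other terms
  have hz : ∀ j, j ≠ a → co m s j ≠ co m s a + e →
      (if e ≤ bt m s e a (v + 1) j then SS (fun j => Pw Q M j (0 : ZMod M)) (e * v + s) (dn (bt m s e a (v + 1)) j e) else 0) = 0 := by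
    intro j hj hja
    by_cases hej : e ≤ bt m s e a (v + 1) j
    · rw [if_pos hej]
      rw [bt_ne hj] at hej
      obtain ⟨b, hbj, hb⟩ := exists_below hs hej
      have hba : b ≠ a := by
        rintro rfl
        exact hja hb.symm
      apply SS_noninj
      intro hinj
      apply hbj
      apply hinj
      rw [dn_self, dn_ne _ e hbj, bt_ne hba, bt_ne hj]
      omega
    · rw [if_neg hej]
  by_cases hab : ∀ j : Fin m, co m s j ≠ co m s a + e
  · left
    refine ⟨hab, ?_⟩
    rw [Finset.sum_eq_single a (fun j _ hj => hz j hj (hab j)) (fun h => absurd (Finset.mem_univ _) h), ha]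
  · right
    push Not at hab
    obtain ⟨j, hj⟩ := hab
    have hja : j ≠ a := by
      rintro rfl
      omega
    refine ⟨j, hj, ?_⟩
    rw [← Finset.add_sum_erase _ _ (Finset.mem_univ a), ha,
      Finset.sum_eq_single_of_mem j (Finset.mem_erase.2 ⟨hja, Finset.mem_univ j⟩) (fun b hb hbj =>
        hz b (Finset.ne_of_mem_erase hb) (fun h => hbj (co_inj (h.trans hj.symm)))), sub_eq_add_neg]
    congr 1
    have h2 : e ≤ bt m s e a (v + 1) j := by rw [bt_ne hja]; omega
    rw [if_pos h2]
    have h3 : dn (bt m s e a (v + 1)) j e = bt m s e j v ∘ Equiv.swap a j := by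
      have : e * (v + 1) = e * v + e := by ring
      funext b
      rw [Function.comp_apply]
      by_cases hb : b = j
      · subst hb
        rw [dn_self, Equiv.swap_apply_right, bt_ne hja, bt_ne (Ne.symm hja)]
        omega
      · rw [dn_ne _ e hb]
        by_cases hba : b = a
        · subst hba
          rw [Equiv.swap_apply_left, bt_self, bt_self]
          omega
        · rw [Equiv.swap_apply_of_ne_of_ne hba hb, bt_ne hba, bt_ne hb]
    rw [h3]
    exact (SS_alt (fun j => Pw Q M j (0 : ZMod M)) (e * v + s)).swap (bt m s e j v) (Ne.symm hja)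

/-- the number -/
def cc : ℕ → ℕ → ℤ
  | 0, _ => 1
  | v + 1, 0 => cc v 0
  | v + 1, d + 1 => cc v (d + 1) - cc v d

theorem cc_zero (v : ℕ) : cc v 0 = 1 := by
  induction v with
  | zero => rfl
  | succ v ih => exact ih

theorem cc_succ (v : ℕ) : ∀ d, cc (v + 1) d = (-1) ^ d * (v.choose d : ℤ) := by
  induction v with
  | zero =>
    intro d
    rcases d with _ | d
    · rfl
    · show (1 : ℤ) - 1 = _
      simp
  | succ v ih =>
    intro d
    rcases d with _ | d
    · rw [cc_zero]; simp
    · show cc (v + 1) (d + 1) - cc (v + 1) d = _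
      rw [ih, ih, Nat.choose_succ_succ]
      push_cast
      ring

theorem not_dvd_cc (hp : p.Prime) {w d : ℕ} (hpw : p ∣ w) (hw : 0 < w) (hd : d < p) : ¬ (p : ℤ) ∣ cc w d := by
  have := Fact.mk hp
  obtain ⟨v, rfl⟩ : ∃ v, w = v + 1 := ⟨w - 1, by omega⟩
  rw [cc_succ]
  intro h
  have h1 : (p : ℤ) ∣ (v.choose d : ℤ) := by
    rcases neg_one_pow_eq_or ℤ d with h2 | h2
    · rwa [h2, one_mul] at h
    · rwa [h2, neg_one_mul, dvd_neg] at h
  have h2 : p ∣ v.choose d := by exact_mod_cast h1
  have h3 := Choose.choose_modEq_choose_mod_mul_choose_div_nat (p := p) (n := v) (k := d)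
  have h4 : v % p = p - 1 := by
    obtain ⟨c, hc⟩ := hpw
    have hc0 : 0 < c := Nat.pos_of_ne_zero (by rintro rfl; rw [mul_zero] at hc; omega)
    obtain ⟨c', rfl⟩ : ∃ c', c = c' + 1 := ⟨c - 1, by omega⟩
    have h5 : v = (p - 1) + p * c' := by
      have h6 : p * (c' + 1) = p * c' + p := by ring
      have h7 := hp.pos
      omega
    rw [h5, Nat.add_mul_mod_self_left, Nat.mod_eq_of_lt (by have := hp.pos; omega)]
  rw [Nat.mod_eq_of_lt hd, Nat.div_eq_of_lt hd, Nat.choose_zero_right, mul_one, h4] at h3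
  have h5 : p ∣ (p - 1).choose d := (Nat.modEq_zero_iff_dvd.1 ((h3.symm.trans (Nat.modEq_zero_iff_dvd.2 h2))))
  have h6 : (p - 1).choose d ∣ (p - 1).factorial := by
    rw [← Nat.choose_mul_factorial_mul_factorial (show d ≤ p - 1 by omega)]
    exact ⟨_, by rw [mul_assoc]⟩
  have h7 := (hp.dvd_factorial).1 (h5.trans h6)
  have := hp.pos
  omega

variable {N : ℕ} {𝔐 : Ideal AlgInt} {F : ∀ n, n ≤ N → (RS M →ₗ[ℂ] ℂ)}

/-- the hypotheses on the functional -/
structure FHyp (Q : ℤ) (M : ℕ) [NeZero M] (p N : ℕ) (𝔐 : Ideal AlgInt) (F : ∀ n, n ≤ N → (RS M →ₗ[ℂ] ℂ)) : Prop where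
  tau : ∀ (n : ℕ) (hn : n ≤ N), ∀ x ∈ Hom Q M n, F n hn (tauP Q M p x) = F n hn x
  step : ∀ (m n l : ℕ) (hn : n ≤ N) (hl : l ≤ N), l + orderOf (Q : ZMod p) = n → n ≤ m → ∀ x ∈ ZU Q M m n,
    MemLocalIdeal 𝔐 (F n hn x - F l hl (Dv Q M (orderOf (Q : ZMod p), 0) x))
  one : ∀ (n m : ℕ) (hn : n ≤ N), 0 < m → F n hn (S0 Q M n (row m n)) = 1

theorem co_eq_row : co m s = row m s := rfl

theorem F_bt [𝔐.IsPrime] (hQ : IsUnit (Q : ZMod M)) (H : FHyp Q M p N 𝔐 F) (he : e = orderOf (Q : ZMod p)) (hs : s < e) (v : ℕ) :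
    ∀ (n : ℕ) (hn : n ≤ N), n = e * v + s → n ≤ m → ∀ a : Fin m,
      MemLocalIdeal 𝔐 (F n hn (S0 Q M n (bt m s e a v)) - ((cc v (dep m s e a) : ℤ) : ℂ)) := by
  induction v with
  | zero =>
    intro n hn hns hm a
    have hns' : n = s := by rw [hns]; ring
    subst hns'
    have h1 : cc 0 (dep m n e a) = 1 := rfl
    rw [bt_zero, co_eq_row, H.one n m hn (Fin.pos a), h1, Int.cast_one, sub_self]
    exact memLocalIdeal_zero
  | succ v ih =>
    intro n hn hns hm a
    have hl : e * v + s + e = n := by rw [hns]; ring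
    have h1 := H.step m n (e * v + s) hn (by omega) (by rw [← he]; exact hl) hm (S0 Q M n (bt m s e a (v + 1)))
      (mem_ZU (by rw [sum_bt (Fin.pos a), hns]))
    rw [← he] at h1
    have ih' := ih (e * v + s) (by omega) rfl (by omega)
    have hns2 := hns
    subst hns
    rcases D_bt (Q := Q) (M := M) hQ hs a v with ⟨h2, h3⟩ | ⟨j, h2, h3⟩
    · have h4 : cc (v + 1) (dep m s e a) = cc v (dep m s e a) := by
        rw [dep_zero hs h2]; rfl
      rw [S0, h3] at h1
      rw [h4]
      exact memLocalIdeal_sub_trans h1 (ih' a)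
    · have h4 : cc (v + 1) (dep m s e a) = cc v (dep m s e a) - cc v (dep m s e j) := by
        rw [dep_succ hs h2]; rfl
      rw [S0, h3, map_sub] at h1
      rw [h4]
      refine memLocalIdeal_sub_trans h1 ?_
      push_cast
      rw [sub_sub_sub_comm]
      exact memLocalIdeal_sub (ih' a) (ih' j)

theorem Pw_mul_mem {k' : ℕ} {r : ℕ} (hr : 0 < r) (hk : k' + r ≤ m) {β : Fin m → ℕ} (h : ∑ i, β i = k' + ∑ i : Fin m, (i : ℕ)) :
    Pw Q M r (0 : ZMod M) * S0 Q M k' β ∈ ZU Q M m (k' + r) := by
  rw [S0, mul_SS (fun j => Pw Q M j (0 : ZMod M)) hr hk β]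
  refine AddSubgroup.sum_mem _ fun i _ => mem_ZU ?_
  rw [sum_up, h]
  ring

theorem F_near [𝔐.IsPrime] (hQ : IsUnit (Q : ZMod M)) (H : FHyp Q M p N 𝔐 F) (he : e = orderOf (Q : ZMod p)) (hm : e < m)
    (hs : s < e) (i : Fin e) (k : ℕ) :
    ∀ (n : ℕ) (hn : n ≤ N), n = e * (k + 1) + s → n ≤ m →
      MemLocalIdeal 𝔐 (F n hn (Pw Q M e 0 * S0 Q M (e * k + s) (be m s e i k)) - ((e * (k + 1) : ℕ) : ℂ)) := by
  have he0 : 0 < e := by omega
  have hD : Dv Q M (e, 0) (Pw Q M e (0 : ZMod M)) = (e : RS M) := by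
    have h1 := DP_Pw hQ H794.XZ.zero_mem_repsZ H794.XZ.zero_mem_repsZ (r := e) e he0
    rw [DP, H794.XZ.perZ_zero', mul_one] at h1
    rw [h1]
    simp
  have hdep : dep m s e (topF (s := s) hm i) = 0 := dep_top hm hs i
  induction k with
  | zero =>
    intro n hn hns hnm
    have hx : Pw Q M e 0 * S0 Q M (e * 0 + s) (be m s e i 0) ∈ ZU Q M m (e * 0 + s + e) :=
      Pw_mul_mem he0 (by rw [hns] at hnm; omega) (sum_be hm i 0)
    have hl : e * 0 + s + e = n := by rw [hns]; ring
    rw [hl] at hx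
    have h1 := H.step m n s hn (by omega) (by rw [← he, ← hl]; ring) hnm _ hx
    rw [← he, Derivation.leibniz, hD] at h1
    have h2 : Dv Q M (e, 0) (S0 Q M (e * 0 + s) (be m s e i 0)) = 0 := by
      refine D_SS_lt _ (r := e) (fun s' hs' => ?_) (by omega) _
      have h3 := DP_Pw hQ H794.XZ.zero_mem_repsZ H794.XZ.zero_mem_repsZ (r := e) s' hs'
      rw [DP, H794.XZ.perZ_zero', mul_one] at h3
      rw [h3]
      simp
    rw [h2, smul_zero, zero_add, smul_eq_mul, mul_comm (S0 Q M (e * 0 + s) (be m s e i 0)) (e : RS M), ← nsmul_eq_mul,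
      map_nsmul, be_zero] at h1
    have h4 : F s (by omega) (S0 Q M (e * 0 + s) (fun a : Fin m => (a : ℕ) + if (a : ℕ) + 1 = m then s else 0)) = 1 := by
      have h5 := H.one s m (by omega) (by omega)
      rw [mul_zero, zero_add]
      exact h5
    rw [h4, nsmul_eq_mul, mul_one] at h1
    rw [zero_add, mul_one, be_zero]
    exact h1
  | succ k ih =>
    intro n hn hns hnm
    have hx : Pw Q M e 0 * S0 Q M (e * (k + 1) + s) (be m s e i (k + 1)) ∈ ZU Q M m (e * (k + 1) + s + e) :=
      Pw_mul_mem he0 (by rw [hns] at hnm; have : e * (k + 1 + 1) = e * (k + 1) + e := by ring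
                         omega) (sum_be hm i (k + 1))
    have hl : e * (k + 1) + s + e = n := by rw [hns]; ring
    rw [hl] at hx
    have h1 := H.step m n (e * (k + 1) + s) hn (by omega) (by rw [← he]; exact hl) hnm _ hx
    rw [← he, Derivation.leibniz, hD] at h1
    have h2 : Dv Q M (e, 0) (S0 Q M (e * (k + 1) + s) (be m s e i (k + 1))) = S0 Q M (e * k + s) (be m s e i k) := by
      rw [be_eq_bt hm, be_eq_bt hm]
      rcases D_bt (Q := Q) (M := M) hQ hs (topF (s := s) hm i) k with ⟨-, h3⟩ | ⟨j, h3, -⟩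
      · exact h3
      · rw [dep_succ hs h3] at hdep
        omega
    rw [h2, smul_eq_mul, smul_eq_mul, map_add, mul_comm (S0 Q M (e * (k + 1) + s) (be m s e i (k + 1))), ← nsmul_eq_mul,
      map_nsmul, nsmul_eq_mul] at h1
    have h3 := ih (e * (k + 1) + s) (by omega) rfl (by omega)
    have h4 := F_bt hQ H he hs (k + 1) (e * (k + 1) + s) (by omega) rfl (by omega) (topF (s := s) hm i)
    rw [hdep, cc_zero, ← be_eq_bt hm, Int.cast_one] at h4
    refine memLocalIdeal_sub_trans h1 ?_
    have h5 : F (e * (k + 1) + s) (by omega) (Pw Q M e 0 * S0 Q M (e * k + s) (be m s e i k)) +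
        (e : ℂ) * F (e * (k + 1) + s) (by omega) (S0 Q M (e * (k + 1) + s) (be m s e i (k + 1))) -
        ((e * (k + 1 + 1) : ℕ) : ℂ) =
        (F (e * (k + 1) + s) (by omega) (Pw Q M e 0 * S0 Q M (e * k + s) (be m s e i k)) - ((e * (k + 1) : ℕ) : ℂ)) +
        (e : ℂ) * (F (e * (k + 1) + s) (by omega) (S0 Q M (e * (k + 1) + s) (be m s e i (k + 1))) - 1) := by
      push_cast
      ring
    rw [h5]
    exact memLocalIdeal_add h3 (memLocalIdeal_mul_left (memLocalRing_natCast _) h4)

end val

end Cfsg.Agent.H139.XZ
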