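import Cfsg.Agent.H139.XZ.Near

/-!
# S4791 + S4927: the labels of the near hooks

* `perZ_tors`, `card_tors` : the labels of order `p`;
* `exists_near` : the labels `L c` (`c` of order `p`; slot tuple `γ` of size `b` and a near hook of size `e (w - b) + s`),
  and `U i` (near hooks of size `e w + s`).
-/

set_option autoImplicit false
set_option linter.unusedSectionVars false
set_option linter.unusedVariables false

namespace Cfsg.Agent.H139.XZ

open Cfsg.Agent.H614 Cfsg.Agent.H577.GLB.Std Cfsg.Agent.H614.GLn.RSt Cfsg.Agent.H76.GLB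
open Cfsg.Agent.H614.GLn hiding bsz
open Cfsg.Agent.H577.GLB.Real (OnlyOn)

variable {Q : ℤ} {M : ℕ} [NeZero M] {p : ℕ}

/-! ### the labels of order `p` -/

theorem addOrderOf_tors (hp : p.Prime) {c : ZMod M} (hc : c ≠ 0) (h : p • c = 0) : addOrderOf c = p := by
  have := Fact.mk hp
  exact addOrderOf_eq_prime h hc

theorem perZ_tors (hp : p.Prime) (hQ : IsUnit (Q : ZMod M)) (hQp : IsUnit (Q : ZMod p)) {c : ZMod M} (hc : c ≠ 0)
    (h : p • c = 0) : perZ Q M c = orderOf (Q : ZMod p) := by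
  have h1 : ∀ j : ℕ, perZ Q M c ∣ j ↔ orderOf (Q : ZMod p) ∣ j := by
    intro j
    rw [← pow_mul_eq_iff, orderOf_dvd_iff_pow_eq_one]
    have h2 : (Q : ZMod M) ^ j * c = c ↔ (Q ^ j - 1 : ℤ) • c = 0 := by
      rw [sub_smul, one_smul, sub_eq_zero, zsmul_eq_mul]
      push_cast
      rfl
    have h3 : (Q : ZMod p) ^ j = 1 ↔ ((p : ℕ) : ℤ) ∣ Q ^ j - 1 := by
      rw [← ZMod.intCast_zmod_eq_zero_iff_dvd]
      push_cast
      rw [sub_eq_zero]
    rw [h2, h3, ← addOrderOf_dvd_iff_zsmul_eq_zero, addOrderOf_tors hp hc h]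
  exact Nat.dvd_antisymm ((h1 _).2 dvd_rfl) ((h1 _).1 dvd_rfl)

theorem card_tors (hp : p.Prime) (hpM : p ∣ M) : Nat.card {c : ZMod M // c ≠ 0 ∧ p • c = 0} = p - 1 := by
  classical
  have := Fact.mk hp
  have h1 := IsAddCyclic.card_addOrderOf_eq_totient (α := ZMod M) (d := p) (by rwa [ZMod.card])
  rw [Nat.totient_prime hp] at h1
  rw [← h1, ← Fintype.card_coe, Nat.card_eq_fintype_card]
  refine Fintype.card_congr (Equiv.subtypeEquivRight fun c => ?_)
  rw [Finset.mem_filter]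
  constructor
  · rintro ⟨h2, h3⟩
    exact ⟨Finset.mem_univ _, addOrderOf_tors hp h2 h3⟩
  · rintro ⟨-, h2⟩
    refine ⟨?_, ?_⟩
    · rintro rfl
      rw [addOrderOf_zero] at h2
      exact hp.one_lt.ne h2
    · rw [← h2]
      exact addOrderOf_nsmul_eq_zero c

theorem sameZ_ne {c c' : ZMod M} (h : SameZ Q M c c') (hQ : IsUnit (Q : ZMod M)) (hc : c ≠ 0) : c' ≠ 0 := by
  obtain ⟨j, rfl⟩ := h
  intro h0
  exact hc (((hQ.pow j).mul_right_eq_zero).1 h0)

theorem smul_same {c c' : ZMod M} (h : SameZ Q M c c') (hc : p • c = 0) : p • c' = 0 := by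
  obtain ⟨j, rfl⟩ := h
  rw [← mul_smul_comm, hc, mul_zero]

theorem perZ_zero (hQ : IsUnit (Q : ZMod M)) : perZ Q M 0 = 1 := by
  have h : perZ Q M (0 : ZMod M) ∣ 1 := by
    rw [← pow_mul_eq_iff, mul_zero]
  exact Nat.dvd_one.1 h

theorem canon_zero (hQ : IsUnit (Q : ZMod M)) : canon Q M 0 = 0 := by
  obtain ⟨j, hj⟩ := sameZ_canon (Q := Q) (0 : ZMod M)
  rw [hj, mul_zero]

/-! ### sorting -/

theorem exists_sort {m : ℕ} {β : Fin m → ℕ} (h : Function.Injective β) :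
    ∃ (σ : Equiv.Perm (Fin m)), StrictMono (β ∘ σ) :=
  ⟨Tuple.sort β, (Tuple.monotone_sort β).strictMono_of_injective (h.comp (Equiv.injective _))⟩

theorem sum_comp {m : ℕ} (β : Fin m → ℕ) (σ : Equiv.Perm (Fin m)) : ∑ i, (β ∘ σ) i = ∑ i, β i :=
  Equiv.sum_comp σ β

/-- the sorted tuple -/
noncomputable def srt {m : ℕ} (β : Fin m → ℕ) : Fin m → ℕ := β ∘ Tuple.sort β

theorem srt_mono {m : ℕ} {β : Fin m → ℕ} (h : Function.Injective β) : StrictMono (srt β) :=
  (Tuple.monotone_sort β).strictMono_of_injective (h.comp (Equiv.injective _))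

theorem SS_srt {m : ℕ} (P : ℕ → RS M) (k : ℕ) (β : Fin m → ℕ) :
    ∃ sg : ℤˣ, SS P k (srt β) = ((sg : ℤ) : ℂ) • SS P k β := by
  refine ⟨Equiv.Perm.sign (Tuple.sort β), ?_⟩
  have h := SS_alt P k (Tuple.sort β) β
  rw [srt, h, Int.cast_smul_eq_zsmul, sg]

variable {m s e : ℕ}

/-- the sorted tuple of a near hook -/
noncomputable def sb (m s e : ℕ) (i : Fin e) (k : ℕ) : Fin m → ℕ := srt (be m s e i k)

theorem sb_mono (hm : e < m) (hs : s < e) (i : Fin e) (k : ℕ) : StrictMono (sb m s e i k) := srt_mono (be_inj hm hs i k)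

theorem bsz_sb (hm : e < m) (i : Fin e) (k : ℕ) : bsz (sb m s e i k) = e * k + s := by
  unfold bsz sb srt
  rw [sum_comp, sum_be hm, Nat.add_sub_cancel]

theorem sb_runner (hm : e < m) (hs : s < e) {i i' : Fin e} {k : ℕ} (hk : 0 < k)
    (h : sb m s e i k = sb m s e i' k) : i = i' := by
  refine be_runner (σ := (Tuple.sort (be m s e i k)).symm.trans (Tuple.sort (be m s e i' k))) hm hs hk ?_
  funext a
  have h1 := congrFun h ((Tuple.sort (be m s e i k)).symm a)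
  simp only [sb, srt, Function.comp_apply, Equiv.apply_symm_apply] at h1
  rw [h1]
  rfl

/-! ### labels -/

/-- the unipotent label with tuple `γ` -/
noncomputable def unl (hQ : IsUnit (Q : ZMod M)) {γ : Fin m → ℕ} (hγ : StrictMono γ) {n : ℕ} (hn : bsz γ = n) :
    LabZ Q M m n where
  t := (mkL hQ 0 γ hγ hn).t
  mono := (mkL hQ 0 γ hγ hn).mono
  orb := (mkL hQ 0 γ hγ hn).orb
  sum := by rw [(mkL hQ 0 γ hγ hn).sum, perZ_zero hQ, one_mul]

theorem unl_zero (hQ : IsUnit (Q : ZMod M)) {γ : Fin m → ℕ} (hγ : StrictMono γ) {n : ℕ} (hn : bsz γ = n) :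
    (unl hQ hγ hn).t 0 = γ := mkL_self hQ 0 γ hγ hn

theorem unl_ne (hQ : IsUnit (Q : ZMod M)) {γ : Fin m → ℕ} (hγ : StrictMono γ) {n : ℕ} (hn : bsz γ = n) {c : ZMod M}
    (hc : c ≠ 0) : (unl hQ hγ hn).t c = idb m := by
  show repl Q (fun _ => idb m) 0 γ c = _
  rw [repl_not]
  rintro ⟨j, hj⟩
  exact hc (by rw [hj, mul_zero])

theorem SchP_unl (hQ : IsUnit (Q : ZMod M)) {γ : Fin m → ℕ} (hγ : StrictMono γ) {n : ℕ} (hn : bsz γ = n) :
    SchP Q M (unl hQ hγ hn).t = SS (fun j => Pw Q M j 0) n γ := by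
  show SchP Q M (mkL hQ 0 γ hγ hn).t = _
  rw [SchP_mkL, canon_zero hQ]

/-- the label with the tuple `γ` at `0` and the tuple `γ'` on the orbit of `δ` -/
noncomputable def two (hQ : IsUnit (Q : ZMod M)) {γ : Fin m → ℕ} (hγ : StrictMono γ) {n' : ℕ} (hn' : bsz γ = n')
    (δ : ZMod M) (hδ : δ ≠ 0) {γ' : Fin m → ℕ} (hγ' : StrictMono γ') {n : ℕ} (hn : n' + perZ Q M δ * bsz γ' = n) :
    LabZ Q M m n where
  t := repl Q (unl hQ hγ hn').t δ γ'
  mono c := by
    by_cases h : SameZ Q M δ c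
    · rw [repl_same _ _ h]; exact hγ'
    · rw [repl_not _ _ h]; exact (unl hQ hγ hn').mono c
  orb c := by
    by_cases h : SameZ Q M δ c
    · rw [repl_same _ _ h, repl_same _ _ (SameZ.trans' h ⟨1, by rw [pow_one]⟩)]
    · rw [repl_not _ _ h, repl_not _ _ (fun h' => h (SameZ.trans' h' (SameZ.symm' hQ ⟨1, by rw [pow_one]⟩))),
        (unl hQ hγ hn').orb]
  sum := by
    have h1 := sum_repl hQ (unl hQ hγ hn') δ γ'
    rw [unl_ne hQ hγ hn' hδ, bsz_idb, mul_zero, add_zero] at h1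
    rw [h1, hn]

theorem SchP_two (hQ : IsUnit (Q : ZMod M)) {γ : Fin m → ℕ} (hγ : StrictMono γ) {n' : ℕ} (hn' : bsz γ = n')
    (δ : ZMod M) (hδ : δ ≠ 0) {γ' : Fin m → ℕ} (hγ' : StrictMono γ') {n : ℕ} (hn : n' + perZ Q M δ * bsz γ' = n) :
    SchP Q M (two hQ hγ hn' δ hδ hγ' hn).t =
      SS (fun j => Pw Q M j (canon Q M δ)) (bsz γ') γ' * SS (fun j => Pw Q M j 0) n' γ := by
  have h1 : SchP Q M (two hQ hγ hn' δ hδ hγ' hn).t = _ := SchP_repl hQ (unl hQ hγ hn').t δ γ'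
  have h2 : SchP Q M (unl hQ hγ hn').t = Sch Q M (canon Q M δ) (idb m) *
      ∏ c ∈ (repsZ Q M).erase (canon Q M δ), Sch Q M c ((unl hQ hγ hn').t c) := by
    have h3 : (unl hQ hγ hn').t = repl Q (unl hQ hγ hn').t δ (idb m) := by
      funext c
      by_cases h : SameZ Q M δ c
      · rw [repl_same _ _ h, unl_ne hQ hγ hn' (sameZ_ne h hQ hδ)]
      · rw [repl_not _ _ h]
    conv_lhs => rw [h3]
    exact SchP_repl hQ (unl hQ hγ hn').t δ (idb m)
  rw [Sch_idb, one_mul] at h2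
  rw [h1, ← h2, SchP_unl, Sch_eq]

/-- position in the orbit -/
theorem exists_idx (hp : p.Prime) (hQ : IsUnit (Q : ZMod M)) (hQp : IsUnit (Q : ZMod p)) (he : e = orderOf (Q : ZMod p))
    (c : {c : ZMod M // c ≠ 0 ∧ p • c = 0}) : ∃ i : Fin e, c.1 = (Q : ZMod M) ^ (i : ℕ) * canon Q M c.1 := by
  have h1 : SameZ Q M (canon Q M c.1) c.1 := SameZ.symm' hQ (sameZ_canon c.1)
  have h2 : perZ Q M (canon Q M c.1) = e := by
    rw [← perZ_of_same hQ (sameZ_canon c.1), perZ_tors hp hQ hQp c.2.1 c.2.2, he]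
  obtain ⟨j, hj⟩ := h1
  refine ⟨⟨j % e, Nat.mod_lt _ ?_⟩, ?_⟩
  · rw [← h2]
    exact perZ_pos hQ _
  · have h3 : (Q : ZMod M) ^ (j % e) * canon Q M c.1 = (Q : ZMod M) ^ j * canon Q M c.1 := by
      rw [← iter_mul, ← iter_mul, ← h2]
      exact Function.iterate_mod_minimalPeriod_eq
    exact hj.trans h3.symm

/-- **The labels of the near hooks**, general form: slot tuple `γ'` of size `b` on the orbit of `c`. -/
theorem exists_near_gen (hp : p.Prime) (hQ : IsUnit (Q : ZMod M)) (hQp : IsUnit (Q : ZMod p))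
    (he : e = orderOf (Q : ZMod p)) (hm : e < m) (hs : s < e) {k b n : ℕ} (hk : 0 < k) {γ' : Fin m → ℕ}
    (hγ' : StrictMono γ') (hb : bsz γ' = b) (hb0 : 0 < b) (hn : n = e * (k + b) + s) :
    ∃ L : {c : ZMod M // c ≠ 0 ∧ p • c = 0} → LabZ Q M m n, Function.Injective L ∧
      (∀ c, ∃ i : Fin e, ∃ sg : ℤˣ, SchP Q M (L c).t = ((sg : ℤ) : ℂ) •
        (SS (fun j => Pw Q M j (canon Q M c.1)) b γ' * SS (fun j => Pw Q M j (0 : ZMod M)) (e * k + s) (be m s e i k))) ∧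
      (∀ c c', p • c' ≠ 0 → bsz ((L c).t c') = 0) ∧ ∀ c, 0 < bsz ((L c).t c.1) := by
  have hδ : ∀ c : {c : ZMod M // c ≠ 0 ∧ p • c = 0}, canon Q M c.1 ≠ 0 := fun c => sameZ_ne (sameZ_canon c.1) hQ c.2.1
  have hper : ∀ c : {c : ZMod M // c ≠ 0 ∧ p • c = 0}, perZ Q M (canon Q M c.1) = e := fun c => by
    rw [← perZ_of_same hQ (sameZ_canon c.1), perZ_tors hp hQ hQp c.2.1 c.2.2, he]
  choose i hi using fun c : {c : ZMod M // c ≠ 0 ∧ p • c = 0} => exists_idx (Q := Q) (e := e) hp hQ hQp he c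
  have hnn : ∀ c : {c : ZMod M // c ≠ 0 ∧ p • c = 0}, e * k + s + perZ Q M (canon Q M c.1) * bsz γ' = n := fun c => by
    rw [hper, hb, hn]; ring
  let L : {c : ZMod M // c ≠ 0 ∧ p • c = 0} → LabZ Q M m n := fun c =>
    two hQ (sb_mono hm hs (i c) k) (bsz_sb hm (i c) k) (canon Q M c.1) (hδ c) hγ' (hnn c)
  have hL0 : ∀ c, (L c).t 0 = sb m s e (i c) k := by
    intro c
    show repl Q (unl hQ (sb_mono hm hs (i c) k) (bsz_sb hm (i c) k)).t (canon Q M c.1) γ' 0 = _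
    rw [repl_not, unl_zero]
    intro h
    exact sameZ_ne h hQ (hδ c) rfl
  have hLs : ∀ c c', SameZ Q M (canon Q M c.1) c' → (L c).t c' = γ' := fun c c' h => repl_same _ _ h
  have hLn : ∀ c c', c' ≠ 0 → ¬ SameZ Q M (canon Q M c.1) c' → (L c).t c' = idb m := by
    intro c c' h0 h
    show repl Q (unl hQ (sb_mono hm hs (i c) k) (bsz_sb hm (i c) k)).t (canon Q M c.1) γ' c' = _
    rw [repl_not _ _ h, unl_ne _ _ _ h0]
  refine ⟨L, ?_, ?_, ?_, ?_⟩
  · intro c c' hcc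
    have h1 : SameZ Q M (canon Q M c'.1) c.1 := by
      by_contra h
      have h2 := hLn c' c.1 c.2.1 h
      rw [← hcc, hLs c c.1 (SameZ.symm' hQ (sameZ_canon c.1))] at h2
      rw [h2, bsz_idb] at hb
      omega
    have h2 : canon Q M c.1 = canon Q M c'.1 := by
      rw [← canon_eq_of_same hQ h1, canon_canon hQ]
    have h3 : i c = i c' := by
      refine sb_runner hm hs hk ?_
      rw [← hL0 c, ← hL0 c', hcc]
    apply Subtype.ext
    rw [hi c, hi c', h2, h3]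
  · intro c
    obtain ⟨sg, hsg⟩ := SS_srt (fun j => Pw Q M j (0 : ZMod M)) (e * k + s) (be m s e (i c) k)
    refine ⟨i c, sg, ?_⟩
    rw [SchP_two, canon_canon hQ, hb, ← mul_smul_comm, ← hsg]
    rfl
  · intro c c' hc'
    have h0 : c' ≠ 0 := by
      rintro rfl
      exact hc' (smul_zero _)
    rw [hLn c c' h0, bsz_idb]
    intro h
    exact hc' (smul_same h (smul_same (sameZ_canon c.1) c.2.2))
  · intro c
    rw [hLs c c.1 (SameZ.symm' hQ (sameZ_canon c.1)), hb]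
    exact hb0

/-- the unipotent near hooks -/
theorem exists_unip (hQ : IsUnit (Q : ZMod M)) (hm : e < m) (hs : s < e) {w n : ℕ} (hw : 0 < w) (hn : n = e * w + s) :
    ∃ U : Fin e → LabZ Q M m n, Function.Injective U ∧
      (∀ i, ∃ sg : ℤˣ, SchP Q M (U i).t = ((sg : ℤ) : ℂ) • SS (fun j => Pw Q M j (0 : ZMod M)) n (be m s e i w)) ∧
      ∀ i c', c' ≠ 0 → bsz ((U i).t c') = 0 := by
  have hnn : ∀ i : Fin e, bsz (sb m s e i w) = n := fun i => by rw [bsz_sb hm, hn]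
  refine ⟨fun i => unl hQ (sb_mono hm hs i w) (hnn i), ?_, ?_, ?_⟩
  · intro i i' h
    refine sb_runner hm hs hw ?_
    have h1 := congrArg (fun l : LabZ Q M m n => l.t 0) h
    simpa only [unl_zero] using h1
  · intro i
    obtain ⟨sg, hsg⟩ := SS_srt (fun j => Pw Q M j (0 : ZMod M)) n (be m s e i w)
    refine ⟨sg, ?_⟩
    rw [SchP_unl, ← hsg]
    rfl
  · intro i c' h
    rw [unl_ne _ _ _ h, bsz_idb]

/-! ### slots of size one -/

/-- the tuple of the partition `(1)` -/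
def oneT (m : ℕ) : Fin m → ℕ := fun a => (a : ℕ) + if (a : ℕ) + 1 = m then 1 else 0

theorem oneT_eq (hm : 0 < m) : oneT m = up (idb m) ⟨m - 1, by omega⟩ 1 := by
  funext a
  by_cases ha : a = ⟨m - 1, by omega⟩
  · subst ha
    rw [up_self, oneT, if_pos (by simp only; omega)]
    rfl
  · rw [up_ne _ 1 ha, oneT, if_neg, add_zero]
    · rfl
    · intro h
      exact ha (Fin.ext (by simp only; omega))

theorem oneT_mono (m : ℕ) : StrictMono (oneT m) := by
  intro a b hab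
  have h1 : (a : ℕ) < b := hab
  have h2 := b.2
  unfold oneT
  split_ifs <;> omega

theorem bsz_oneT (hm : 0 < m) : bsz (oneT m) = 1 := by
  rw [oneT_eq hm, bsz_up strictMono_idb _ (by rw [← oneT_eq hm]; exact oneT_mono m), bsz_idb]

theorem SS_oneT (hm : 0 < m) (c₀ : ZMod M) : SS (fun j => Pw Q M j c₀) 1 (oneT m) = Pw Q M 1 c₀ := by
  have h1 := mul_SS (fun j => Pw Q M j c₀) one_pos (m := m) (k := 0) (by omega) (idb m)
  rw [SS_idb, mul_one, Finset.sum_eq_single (⟨m - 1, by omega⟩ : Fin m)] at h1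
  · rw [oneT_eq hm]
    exact h1.symm
  · intro j _ hj
    apply SS_noninj
    intro hinj
    have hj1 : (j : ℕ) + 1 < m := by
      have h2 := j.2
      have h3 : (j : ℕ) ≠ m - 1 := fun h => hj (Fin.ext h)
      omega
    have h4 : up (idb m) j 1 ⟨(j : ℕ) + 1, hj1⟩ = up (idb m) j 1 j := by
      rw [up_self, up_ne]
      · rfl
      · intro h
        have := congrArg Fin.val h
        simp only at this
        omega
    have h5 := congrArg Fin.val (hinj h4)
    simp only at h5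
    omega
  · intro h
    exact absurd (Finset.mem_univ _) h

/-- **The labels of the near hooks**: for `c` of order `p`, the product of the cuspidal variable of label `c` and level `e` and a
near hook of size `e (w - 1) + s`; and the unipotent near hooks of size `e w + s`. -/
theorem exists_near (hp : p.Prime) (hQ : IsUnit (Q : ZMod M)) (hQp : IsUnit (Q : ZMod p))
    (he : e = orderOf (Q : ZMod p)) (hm : e < m) (hs : s < e) {w n : ℕ} (hw : 2 ≤ w) (hn : n = e * w + s) :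
    ∃ (L : {c : ZMod M // c ≠ 0 ∧ p • c = 0} → LabZ Q M m n) (U : Fin e → LabZ Q M m n), Function.Injective L ∧
      (∀ c, ∃ i : Fin e, ∃ sg : ℤˣ, SchP Q M (L c).t = ((sg : ℤ) : ℂ) •
        (rv Q M e c.1 * SS (fun j => Pw Q M j (0 : ZMod M)) (e * (w - 1) + s) (be m s e i (w - 1)))) ∧
      (∀ c c', p • c' ≠ 0 → bsz ((L c).t c') = 0) ∧ Function.Injective U ∧
      (∀ i, ∃ sg : ℤˣ, SchP Q M (U i).t = ((sg : ℤ) : ℂ) • SS (fun j => Pw Q M j (0 : ZMod M)) n (be m s e i w)) ∧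
      (∀ i c', p • c' ≠ 0 → bsz ((U i).t c') = 0) ∧ ∀ c i, L c ≠ U i := by
  have hm0 : 0 < m := by omega
  obtain ⟨L, h1, h2, h3, h4⟩ := exists_near_gen (Q := Q) (M := M) hp hQ hQp he hm hs (k := w - 1) (b := 1) (n := n) (by omega)
    (oneT_mono m) (bsz_oneT hm0) one_pos (by rw [hn]; congr 2; omega)
  obtain ⟨U, h5, h6, h7⟩ := exists_unip (Q := Q) (M := M) hQ hm hs (w := w) (n := n) (by omega) hn
  refine ⟨L, U, h1, ?_, h3, h5, h6, ?_, ?_⟩
  · intro c
    obtain ⟨i, sg, h⟩ := h2 c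
    refine ⟨i, sg, ?_⟩
    have h8 : rv Q M e c.1 = Pw Q M 1 (canon Q M c.1) := by
      rw [← rv_eq_Pw hQ, perZ_tors hp hQ hQp c.2.1 c.2.2, he]
    rw [h, SS_oneT hm0, h8]
  · intro i c' h
    refine h7 i c' ?_
    rintro rfl
    exact h (smul_zero _)
  · intro c i h
    have h8 := h4 c
    rw [h, h7 i c.1 c.2.1] at h8
    exact lt_irrefl _ h8

end Cfsg.Agent.H139.XZ
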