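import Cfsg.Agent.H76.GLB.Orbit

/-!
# S4791 + S4927: the tuples of the near hooks

`be m s e i k` : the `β`-tuple (unsorted) of the core `(s)` with the top bead of the `i`-th runner moved up by `e * k`.
-/

set_option autoImplicit false

namespace Cfsg.Agent.H139.XZ

open Cfsg.Agent.H614

/-- the index of the top bead of the `i`-th runner -/
def topI (m s e i : ℕ) : ℕ := m - 1 - (if i < e - s then i else i + 1)

/-- the tuple of the core with the top bead of the `i`-th runner moved up by `e * k` -/
def be (m s e : ℕ) (i : Fin e) (k : ℕ) : Fin m → ℕ := fun a =>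
  (a : ℕ) + (if (a : ℕ) + 1 = m then s else 0) + (if (a : ℕ) = topI m s e i then e * k else 0)

variable {m s e : ℕ}

theorem topI_lt (hm : e < m) (i : Fin e) : topI m s e i < m := by
  unfold topI
  omega

theorem le_topI (i : Fin e) : m - 1 - e ≤ topI m s e i := by
  unfold topI
  have := i.2
  split_ifs <;> omega

theorem topI_ne (hm : e < m) (hs : s < e) (i : Fin e) : topI m s e i ≠ m - 1 + s - e := by
  unfold topI
  have := i.2
  split_ifs <;> omega

theorem topI_inj (hm : e < m) (i i' : Fin e) (h : topI m s e i = topI m s e i') : i = i' := by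
  apply Fin.ext
  unfold topI at h
  have h1 := i.2
  have h2 := i'.2
  split_ifs at h <;> omega

/-- the index of the top bead -/
def topF (hm : e < m) (i : Fin e) : Fin m := ⟨topI m s e i, topI_lt hm i⟩

theorem be_zero (i : Fin e) : be m s e i 0 = fun a : Fin m => (a : ℕ) + if (a : ℕ) + 1 = m then s else 0 := by
  funext a
  simp [be]

theorem be_ne {i : Fin e} {k : ℕ} {a : Fin m} (h : (a : ℕ) ≠ topI m s e i) :
    be m s e i k a = (a : ℕ) + if (a : ℕ) + 1 = m then s else 0 := by
  simp [be, h]

theorem be_top {i : Fin e} {k : ℕ} {a : Fin m} (h : (a : ℕ) = topI m s e i) :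
    be m s e i k a = (a : ℕ) + (if (a : ℕ) + 1 = m then s else 0) + e * k := by
  simp only [be, if_pos h]

/-- the moved bead hits no other bead -/
theorem be_top_ne (hm : e < m) (hs : s < e) (i : Fin e) (k : ℕ) {a b : Fin m} (ha : (a : ℕ) = topI m s e i) (hb : b ≠ a) :
    be m s e i k a ≠ be m s e i k b := by
  have hb' : (b : ℕ) ≠ topI m s e i := fun h => hb (Fin.ext (h.trans ha.symm))
  have hb'' : (b : ℕ) ≠ (a : ℕ) := fun h => hb (Fin.ext h)
  rw [be_top ha, be_ne hb']
  have h1 := le_topI (m := m) (s := s) i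
  have h2 := topI_ne hm hs i
  rw [← ha] at h1 h2
  have hk : k = 0 ∨ k = 1 ∨ ∃ k', k = k' + 2 := by
    rcases k with _ | _ | k
    · exact Or.inl rfl
    · exact Or.inr (Or.inl rfl)
    · exact Or.inr (Or.inr ⟨k, rfl⟩)
  have ha' := a.2
  have hbm := b.2
  rcases hk with rfl | rfl | ⟨k', rfl⟩
  · rw [mul_zero]
    split_ifs <;> omega
  · rw [mul_one]
    split_ifs <;> omega
  · have h3 : e * (k' + 2) = e * k' + 2 * e := by ring
    rw [h3]
    generalize e * k' = x
    split_ifs <;> omega

theorem be_inj (hm : e < m) (hs : s < e) (i : Fin e) (k : ℕ) : Function.Injective (be m s e i k) := by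
  intro a b hab
  by_contra hne
  by_cases ha : (a : ℕ) = topI m s e i
  · exact be_top_ne hm hs i k ha (Ne.symm hne) hab
  · by_cases hb : (b : ℕ) = topI m s e i
    · exact be_top_ne hm hs i k hb hne hab.symm
    · rw [be_ne ha, be_ne hb] at hab
      apply hne
      apply Fin.ext
      have h1 := a.2
      have h2 := b.2
      split_ifs at hab <;> omega

theorem sum_be (hm : e < m) (i : Fin e) (k : ℕ) :
    ∑ a, be m s e i k a = (e * k + s) + ∑ a : Fin m, (a : ℕ) := by
  unfold be
  rw [Finset.sum_add_distrib, Finset.sum_add_distrib]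
  have h1 : ∑ a : Fin m, (if (a : ℕ) + 1 = m then s else 0) = s := by
    rw [Finset.sum_eq_single (⟨m - 1, by omega⟩ : Fin m)]
    · rw [if_pos (by simp only; omega)]
    · intro b _ hb
      rw [if_neg]
      intro h
      exact hb (Fin.ext (by simp only; omega))
    · intro h
      exact absurd (Finset.mem_univ _) h
  have h2 : ∑ a : Fin m, (if (a : ℕ) = topI m s e i then e * k else 0) = e * k := by
    rw [Finset.sum_eq_single (topF (s := s) hm i)]
    · exact if_pos rfl
    · intro b _ hb
      rw [if_neg]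
      intro h
      exact hb (Fin.ext h)
    · intro h
      exact absurd (Finset.mem_univ _) h
  rw [h1, h2]
  ring

/-- only the moved bead can be moved down -/
theorem be_dn (hm : e < m) (hs : s < e) (i : Fin e) (k : ℕ) :
    ∃ j₀ : Fin m, e ≤ be m s e i (k + 1) j₀ ∧ dn (be m s e i (k + 1)) j₀ e = be m s e i k ∧
      ∀ j, j ≠ j₀ → e ≤ be m s e i (k + 1) j → ¬ Function.Injective (dn (be m s e i (k + 1)) j e) := by
  have h0 : ((topF (s := s) hm i : Fin m) : ℕ) = topI m s e i := rfl
  have hek : e * (k + 1) = e * k + e := by ring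
  have hle : e ≤ be m s e i (k + 1) (topF (s := s) hm i) := by
    rw [be_top h0, hek]
    omega
  refine ⟨topF (s := s) hm i, hle, ?_, ?_⟩
  · funext a
    by_cases ha : a = topF (s := s) hm i
    · subst ha
      rw [dn_self, be_top h0, be_top h0, hek]
      omega
    · have ha' : (a : ℕ) ≠ topI m s e i := fun h => ha (Fin.ext h)
      rw [dn_ne _ e ha, be_ne ha', be_ne ha']
  · intro j hj hej hinj
    have hj' : (j : ℕ) ≠ topI m s e i := fun h => hj (Fin.ext h)
    rw [be_ne hj'] at hej
    have h1 := le_topI (m := m) (s := s) i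
    have h2 := topI_ne hm hs i
    have hjm := j.2
    -- the bead one step below
    have hb : ∃ b : Fin m, b ≠ j ∧ (b : ℕ) ≠ topI m s e i ∧ (b : ℕ) + 1 ≠ m ∧
        (b : ℕ) + e = (j : ℕ) + if (j : ℕ) + 1 = m then s else 0 := by
      refine ⟨⟨((j : ℕ) + if (j : ℕ) + 1 = m then s else 0) - e, ?_⟩, ?_, ?_, ?_, ?_⟩
      · split_ifs <;> omega
      · intro h
        have h3 := congrArg Fin.val h
        simp only at h3
        split_ifs at h3 hej <;> omega
      · simp only
        split_ifs at hej ⊢ <;> omega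
      · simp only
        split_ifs at hej ⊢ <;> omega
      · simp only
        omega
    obtain ⟨b, hbj, hbt, hbm, hbe⟩ := hb
    have h3 : dn (be m s e i (k + 1)) j e b = dn (be m s e i (k + 1)) j e j := by
      rw [dn_self, dn_ne _ e hbj, be_ne hbt, be_ne hj', if_neg hbm]
      omega
    exact hbj (hinj h3)

/-- the tuple determines the runner -/
theorem be_runner (hm : e < m) (hs : s < e) {i i' : Fin e} {k : ℕ} (hk : 0 < k) {σ : Equiv.Perm (Fin m)}
    (h : be m s e i k = be m s e i' k ∘ σ) : i = i' := by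
  by_contra hne
  have he : 0 < e := by omega
  have hek : 0 < e * k := Nat.mul_pos he hk
  set b : Fin m := topF (s := s) hm i' with hb
  have hb0 : (b : ℕ) = topI m s e i' := rfl
  have hb1 : (b : ℕ) ≠ topI m s e i := fun h1 => hne (topI_inj hm i i' (h1.symm.trans hb0))
  have h1 := congrFun h b
  rw [Function.comp_apply, be_ne hb1] at h1
  by_cases h2 : σ b = b
  · rw [h2, be_top hb0] at h1
    omega
  · have h3 : ((σ b : Fin m) : ℕ) ≠ topI m s e i' := fun h4 => h2 (Fin.ext h4)
    have h4 : be m s e i' 0 (σ b) = be m s e i' 0 b := by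
      rw [be_ne h3, be_top hb0, mul_zero, add_zero, h1, be_ne h3]
    exact h2 (be_inj hm hs i' 0 h4)

end Cfsg.Agent.H139.XZ
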